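import Cfsg.Agent.H6.HN.X.Main

set_option autoImplicit false
set_option maxRecDepth 100000
set_option Elab.async false

namespace Cfsg.H6.HN.D1

def c0 : Clm := ⟨0, 0, false, [], [1,3,3], 0, [], []⟩
def c1 : Clm := ⟨0, 0, false, [], [3,1,3,1,3,1,3], 0, [], []⟩
def c2 : Clm := ⟨0, 1, true, [], [], 1, [], []⟩
def c3 : Clm := ⟨1, 0, true, [], [], 5, [([], 2, [])], []⟩
def c4 : Clm := ⟨1, 1, false, [], [1,5,1,5,1,5,1,5,5,1,6,6,6,6,6,1,6,6,2], 3, [([], 2, []), ([0,2,1,3,0], 2, [1,5,1,5,1,5,1,5,5,1,6,6,6,6,6,1,6,6,1])], []⟩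
def c5 : Clm := ⟨1, 2, true, [4,5,2,4,4], [], 1, [], []⟩
def c6 : Clm := ⟨2, 1, true, [], [2,6,3,1,6,4], 5, [([], 5, [])], []⟩
def c7 : Clm := ⟨2, 1, true, [1,5,1,5,1,6,6,6,6,6,1,6,6,1,6,6,2,4,6,3,5], [6,1,5,5,5,5,1,5,5,5,5,5,1,5,5,2,5,3,1,3], 13, [([], 5, [5,1,6,6]), ([], 2, [1,5,1,5,5,5,5,5,5,1,6,6,6,6,6]), ([1,3,0,0], 3, [5,1,6,6,6,6,1,6,6,6,1,6,6,2,6])], []⟩
def c8 : Clm := ⟨1, 2, true, [6,1,5,5,5,5,1,5,5,5,5,5,1,5,5,2,5,3,1,3], [1,5,1,5,1,6,6,6,6,6,1,6,6,1,6,6,2,4,6,3,5], 5, [([], 7, [])], []⟩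
def c9 : Clm := ⟨2, 1, true, [5,5,1,6,6,6,6,6,1,6,6,1,6,6,6,3,1,3,6], [5,1,6,6,6,1,6,1,6,1,5,5,5,5,4,6,6,4], 7, [([], 5, [5,1,6,6]), ([], 2, [1,5,1,5,5,5,5,5,5,1,6,6,6,6,6]), ([0,2,2,0], 3, [6,1,6,6,1,6,1,6,6,1,6,6])], []⟩
def c10 : Clm := ⟨1, 2, true, [5,1,6,6,6,1,6,1,6,1,5,5,5,5,4,6,6,4], [5,5,1,6,6,6,6,6,1,6,6,1,6,6,6,3,1,3,6], 5, [([], 9, [])], []⟩
def c11 : Clm := ⟨2, 2, false, [5,5,1,6,6,6,6,6,1,6,6,1,6,6,6,3,1,3,6], [1,6,6,6,6,1,6,1,6,6,6,1,6,6,6,4,6], 3, [([], 10, []), ([], 8, [1,5,1,5,1,5,5,1,5,5])], []⟩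
def c12 : Clm := ⟨2, 2, false, [5,1,5,5,5,5,5,5], [5,1,5,1,5,5,1,5,5,5,5,5,2,6,4,6], 6, [([], 6, [5,1,5,5,5,5,5,5]), ([8], 5, [5,5,1,6,6,6,1,6,1,6,1]), ([22], 6, [5,1,5,1,5,1,6,6]), ([], 8, [5,1,5,5,1,5,2,5,5,5,5])], []⟩
def c13 : Clm := ⟨1, 1, false, [2,6,3,1,6,4], [1,5,1,6,6,1,6,1,6,6,1,6,2,5,5], 3, [([], 6, []), ([25,22], 6, [1,5,1,5,5,1,5,1,5,1,5,2,6,6,6])], []⟩
def c14 : Clm := ⟨0, 0, false, [], [5,1,5,1,5,1,5,1,5,1,5,1,6,6,6], 3, [([], 3, []), ([27], 3, [5,1,5,1,5,1,5,1,5,1,5,2,6,6,6])], []⟩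

noncomputable def cl0 (y : ℕ) : Clm := (selA 7 y (selA 3 y (selA 1 y c0 (selA 2 y c1 c2)) (selA 5 y (selA 4 y c3 c4) (selA 6 y c5 c6))) (selA 11 y (selA 9 y (selA 8 y c7 c8) (selA 10 y c9 c10)) (selA 13 y (selA 12 y c11 c12) (selA 14 y c13 c14))))

noncomputable def cl (y : ℕ) : Clm := (cl0 y)

def gwL : List (List ℕ) := [[], [7], [7,4,5,2,4,4,7]]

noncomputable def D : Dce where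
  inv := 129705083253175681536
  m := 7
  T := 7
  TI := 8
  KL := [1,2,5,6]
  ax := [[1,3,3], [3,1,3,1,3,1,3]]
  sg := [[], [2], [1], [], [], [5,2,2], [1,1,6]]
  chk := fixB X.img 7 X.bs
  pats := [([], false), ([8,7], false), ([7], true), ([8], true), ([7,4,2,4,2,4,4,4,7,3,3,3,1,3,1,3,1,4,2,4,2,4,4,4,7,3,3,3,1,3,1,3,1,4,2,4,2,4,4,4,7,3,3,3,1,3,1,3,1], false), ([2,4,2,4,2,4,4,4,8,3,3,3,1,3,1,3,2,4,2,4,2,4,4,4,8,3,3,3,1,3,1,3,2,4,2,4,2,4,4,4,8,3,3,3,1,3,1,3], true), ([7,3,3,3,1,3,1,3,1,4,2,4,2,4,4,4,7,3,3,3,1,3,1,3,1,4,2,4,2,4,4,4,7,3,3,3,1,3,1,3,1,7,4,2,4,2,4,4,4], false), ([3,3,3,1,3,1,3,8,2,4,2,4,2,4,4,4,8,3,3,3,1,3,1,3,2,4,2,4,2,4,4,4,8,3,3,3,1,3,1,3,2,4,2,4,2,4,4,4], true), ([7,3,3,3,1,3,1,3,1,4,2,4,2,4,4,4,7,3,3,3,1,3,1,3,1,7,4,2,4,2,4,4,4,7,3,3,3,1,3,1,3,1,4,2,4,2,4,4,4],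 false), ([3,3,3,1,3,1,3,2,4,2,4,2,4,4,4,8,3,3,3,1,3,1,3,8,2,4,2,4,2,4,4,4,8,3,3,3,1,3,1,3,2,4,2,4,2,4,4,4], true), ([7,3,3,3,1,3,1,3,1,7,4,2,4,2,4,4,4,7,3,3,3,1,3,1,3,1,4,2,4,2,4,4,4,7,3,3,3,1,3,1,3,1,4,2,4,2,4,4,4], false), ([3,3,3,1,3,1,3,2,4,2,4,2,4,4,4,8,3,3,3,1,3,1,3,2,4,2,4,2,4,4,4,8,3,3,3,1,3,1,3,8,2,4,2,4,2,4,4,4], true)]
  gw := nthW gwL
  cl := cl


end Cfsg.H6.HN.D1
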